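import Mathlib.Topology.Constructible
import Mathlib.Topology.NoetherianSpace
import Mathlib.Topology.Sober
import Mathlib.Topology.LocallyClosed
import Mathlib.Topology.Semicontinuity.Defs

set_option autoImplicit false
universe u v

open Set Topology TopologicalSpace

namespace Groth.Agent.ConstrTop58

variable {X : Type u} [TopologicalSpace X]

lemma exists_sdiff_normal_form {s : Set X} (hs : IsConstructible s) :
    ∃ (ι : Type u) (_ : Finite ι) (U V : ι → Set X), (∀ i, IsOpen (U i) ∧ IsRetrocompact (U i)) ∧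
      (∀ i, IsOpen (V i) ∧ IsRetrocompact (V i)) ∧ s = ⋃ i, U i \ V i := by
  classical
  obtain ⟨t, rfl⟩ := (BooleanSubalgebra.mem_closure_iff_sup_sdiff
    (s := {U : Set X | IsOpen U ∧ IsRetrocompact U})
    ⟨fun s hs t ht => ⟨hs.1.union ht.1, hs.2.union ht.2⟩,
      fun s hs t ht => ⟨hs.1.inter ht.1, hs.2.inter_isOpen ht.2 ht.1⟩⟩
    ⟨isOpen_empty, .empty⟩ ⟨isOpen_univ, .univ⟩).mp hs
  refine ⟨t, inferInstance, fun i => i.1.1.1, fun i => i.1.2.1, fun i => i.1.1.2, fun i => i.1.2.2, ?_⟩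
  ext x
  simp [Finset.sup_eq_iSup]

lemma isRetrocompact_of_isConstructible {s : Set X} (hs : IsConstructible s) :
    IsRetrocompact s := by
  obtain ⟨ι, _, U, V, hU, hV, rfl⟩ := exists_sdiff_normal_form hs
  refine IsRetrocompact.iUnion fun i W hWc hWo => ?_
  have h : IsCompact ((U i ∩ W) ∩ (V i)ᶜ) := ((hU i).2 hWc hWo).inter_right (hV i).1.isClosed_compl
  convert h using 1
  ext x; simp; tauto

lemma exists_locallyClosed_form {s : Set X} (hs : IsConstructible s) :
    ∃ (ι : Type u) (_ : Finite ι) (L : ι → Set X), (∀ i, IsLocallyClosed (L i)) ∧ s = ⋃ i, L i := by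
  obtain ⟨ι, hfin, U, V, hU, hV, rfl⟩ := exists_sdiff_normal_form hs
  exact ⟨ι, hfin, fun i => U i \ V i,
    fun i => ⟨U i, (V i)ᶜ, (hU i).1, (hV i).1.isClosed_compl, rfl⟩, rfl⟩

lemma isConstructible_preimage_val [PrespectralSpace X] {T : Set X} (hT : IsRetrocompact T)
    {E : Set X} (hE : IsConstructible E) :
    IsConstructible ((Subtype.val : T → X) ⁻¹' E) := by
  refine hE.preimage continuous_subtype_val fun U hUo hU W hWc hWo => ?_
  obtain ⟨W', hW'o, rfl⟩ := isOpen_induced_iff.mp hWo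
  obtain ⟨Z, hZ, hZo', hZW, hZs⟩ :=
    PrespectralSpace.exists_isCompact_and_isOpen_between (hWc.image continuous_subtype_val) hW'o
      (by rintro _ ⟨a, ha, rfl⟩; exact ha)
  rw [Subtype.isCompact_iff, image_preimage_inter]
  have h := hT (hU hZ hZo') (hUo.inter hZo')
  convert h using 1
  ext x
  simp only [mem_inter_iff, mem_image, mem_preimage, Subtype.exists, exists_and_left,
    exists_prop]
  constructor
  · rintro ⟨hxU, y, hy, hyT, rfl⟩
    exact ⟨hyT, hxU, hZW ⟨⟨y, hyT⟩, hy, rfl⟩⟩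
  · rintro ⟨hxT, hxU, hxZ⟩
    exact ⟨hxU, x, hZs hxZ, hxT, rfl⟩

lemma isConstructible_image_val {E : Set X} (hE : IsConstructible E) {F : Set E}
    (hF : IsConstructible F) : IsConstructible ((Subtype.val : E → X) '' F) := by
  induction hF using IsConstructible.empty_union_induction with
  | open_retrocompact G hGo hG =>
    obtain ⟨G', hG'o, rfl⟩ := isOpen_induced_iff.mp hGo
    obtain ⟨ι, _, U, V, hU, hV, hEeq⟩ := exists_sdiff_normal_form hE
    have key : ∀ i, IsRetrocompact (V i ∪ (G' ∩ U i)) := by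
      intro i W hWc hWo
      have hUW : IsCompact (U i ∩ W) := (hU i).2 hWc hWo
      have hUWo : IsOpen (U i ∩ W) := (hU i).1.inter hWo
      have h1 : IsCompact ((Subtype.val : E → X) ⁻¹' (U i ∩ W)) := by
        rw [Subtype.isCompact_iff, Subtype.image_preimage_coe]
        exact isRetrocompact_of_isConstructible hE hUW hUWo
      have h2 := (hG h1 (hUWo.preimage continuous_subtype_val)).image continuous_subtype_val
      have h3 := ((hV i).2 hWc hWo).union (h2.inter_right (hV i).1.isClosed_compl)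
      convert h3 using 1
      ext x
      have hxE : x ∈ U i → x ∉ V i → x ∈ E := fun a b => hEeq ▸ mem_iUnion.mpr ⟨i, a, b⟩
      by_cases hx : x ∈ V i <;> simp [hx] at hxE ⊢
      tauto
    have hrw : (Subtype.val : E → X) '' (Subtype.val ⁻¹' G') =
        ⋃ i, ((V i ∪ (G' ∩ U i)) ∩ U i) \ V i := by
      rw [Subtype.image_preimage_coe]
      ext x
      simp only [hEeq, mem_inter_iff, mem_iUnion, mem_union, mem_sdiff]
      constructor
      · rintro ⟨⟨i, h1, h2⟩, h3⟩
        exact ⟨i, ⟨Or.inr ⟨h3, h1⟩, h1⟩, h2⟩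
      · rintro ⟨i, ⟨h, h1⟩, h2⟩
        exact ⟨⟨i, h1, h2⟩, (h.resolve_left h2).1⟩
    rw [hrw]
    refine IsConstructible.iUnion fun i => ?_
    exact (((key i).isConstructible ((hV i).1.union (hG'o.inter (hU i).1))).inter
      ((hU i).2.isConstructible (hU i).1)).sdiff ((hV i).2.isConstructible (hV i).1)
  | union s hs t ht hs' ht' => rw [image_union]; exact hs'.union ht'
  | compl s hs hs' =>
    have : (Subtype.val : E → X) '' sᶜ = E \ Subtype.val '' s := by
      ext x; simp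
    rw [this]; exact hE.sdiff hs'

lemma isConstructible_of_isLocallyClosed_isCompact [CompactSpace X] [PrespectralSpace X]
    [QuasiSeparatedSpace X] {T : Set X} (hT : IsLocallyClosed T) (hTc : IsCompact T)
    (hTr : IsRetrocompact Tᶜ) : IsConstructible T := by
  obtain ⟨U, Z, hU, hZ, rfl⟩ := hT
  obtain ⟨W, hWc, hWo, hTW, hWU⟩ :=
    PrespectralSpace.exists_isCompact_and_isOpen_between hTc hU inter_subset_left
  have h1 : IsCompact ((U ∩ Z)ᶜ ∩ W) := hTr hWc hWo
  have h2 : (U ∩ Z)ᶜ ∩ W = W ∩ Zᶜ := by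
    ext x
    have := @hWU x
    simp; tauto
  rw [h2] at h1
  have h3 : U ∩ Z = W \ (W ∩ Zᶜ) := by
    ext x
    have := @hWU x
    have := @hTW x
    simp_all; tauto
  rw [h3]
  exact (hWc.isConstructible hWo).sdiff (h1.isConstructible (hWo.inter hZ.isOpen_compl))

lemma isConstructible_iff_of_finite_cover [PrespectralSpace X] {ι : Type*} [Finite ι]
    (C : ι → Set X) (hC : ∀ j, IsConstructible (C j)) (hcov : ⋃ j, C j = univ) (E : Set X) :
    IsConstructible E ↔ ∀ j, IsConstructible ((Subtype.val : C j → X) ⁻¹' E) := by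
  refine ⟨fun h j => isConstructible_preimage_val (isRetrocompact_of_isConstructible (hC j)) h,
    fun h => ?_⟩
  have : E = ⋃ j, Subtype.val '' ((Subtype.val : C j → X) ⁻¹' E) := by
    simp [Subtype.image_preimage_coe, ← iUnion_inter, hcov]
  rw [this]
  exact IsConstructible.iUnion fun j => isConstructible_image_val (hC j) (h j)

lemma dense_inter_irreducible {Z : Set X} (hZ : IsIrreducible Z) {ι : Type*} [Finite ι]
    (L : ι → Set X) (hL : ∀ i, IsLocallyClosed (L i)) {E : Set X} (hE : E = ⋃ i, L i) :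
    Z ⊆ closure (E ∩ Z) ↔ ∃ U : Set X, IsOpen U ∧ U ∩ Z ⊆ E ∧ Z ⊆ closure (U ∩ Z) := by
  refine ⟨fun h => ?_, fun ⟨U, _, h1, h2⟩ => h2.trans (closure_mono (subset_inter h1
    inter_subset_right))⟩
  classical
  cases nonempty_fintype ι
  rw [hE, iUnion_inter, closure_iUnion_of_finite] at h
  obtain ⟨_, ht, hZt⟩ := isIrreducible_iff_sUnion_isClosed.mp hZ
    (Finset.univ.image fun i => closure (L i ∩ Z)) (by simp) (by simpa using h)
  obtain ⟨i, -, rfl⟩ := Finset.mem_image.mp ht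
  obtain ⟨U, C, hU, hC, hLi⟩ := hL i
  have hZC : Z ⊆ C := hZt.trans (closure_minimal (hLi ▸ inter_subset_left.trans inter_subset_right) hC)
  refine ⟨U, hU, fun x hx => ?_, hZt.trans (closure_mono ?_)⟩
  · rw [hE]; exact mem_iUnion.mpr ⟨i, hLi ▸ ⟨hx.1, hZC hx.2⟩⟩
  · rw [hLi]; exact inter_subset_inter_left _ inter_subset_left

/-- A set containing a nonempty open part of an irreducible set is dense in it, and conversely. -/
lemma dense_iff_exists_open {Z : Set X} (hZ : IsIrreducible Z) {E : Set X}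
    (hE : IsConstructible E) :
    Z ⊆ closure (E ∩ Z) ↔ ∃ U : Set X, IsOpen U ∧ (U ∩ Z).Nonempty ∧ U ∩ Z ⊆ E := by
  obtain ⟨ι, _, L, hL, hEL⟩ := exists_locallyClosed_form hE
  rw [dense_inter_irreducible hZ L hL hEL]
  constructor
  · rintro ⟨U, hU, hUE, hd⟩
    refine ⟨U, hU, ?_, hUE⟩
    obtain ⟨z, hz⟩ := hZ.1
    exact closure_nonempty_iff.mp ⟨z, hd hz⟩
  · rintro ⟨U, hU, hne, hUE⟩
    refine ⟨U, hU, hUE, ?_⟩
    rw [inter_comm U Z]
    exact subset_closure_inter_of_isPreirreducible_of_isOpen hZ.2 hU (by rwa [inter_comm] at hne)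

lemma dense_preimage_val_iff {Y : Set X} {E : Set X} :
    Dense (Subtype.val ⁻¹' E : Set Y) ↔ Y ⊆ closure (E ∩ Y) := by
  simp only [Subtype.dense_iff, Subtype.image_preimage_coe, inter_comm]

section Noetherian

variable [NoetherianSpace X]

lemma isConstructible_of_isOpen {U : Set X} (hU : IsOpen U) : IsConstructible U :=
  IsRetrocompact.isConstructible hU fun _ _ _ => NoetherianSpace.isCompact _

lemma isConstructible_of_isClosed {C : Set X} (hC : IsClosed C) : IsConstructible C :=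
  (isConstructible_of_isOpen hC.isOpen_compl).of_compl

lemma isConstructible_of_isLocallyClosed {L : Set X} (hL : IsLocallyClosed L) :
    IsConstructible L := by
  obtain ⟨U, C, hU, hC, rfl⟩ := hL
  exact (isConstructible_of_isOpen hU).inter (isConstructible_of_isClosed hC)

/-- Noetherian induction on closed subsets: reduce to irreducible closed subsets. -/
lemma closed_induction {P : Set X → Prop} (empty : P ∅)
    (union : ∀ C D : Set X, IsClosed C → IsClosed D → P C → P D → P (C ∪ D))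
    (irred : ∀ Y : Set X, IsClosed Y → IsIrreducible Y →
      (∀ C, IsClosed C → C ⊂ Y → P C) → P Y)
    (C : Set X) (hC : IsClosed C) : P C := by
  suffices ∀ C : Closeds X, P C from this ⟨C, hC⟩
  intro C
  induction C using WellFoundedLT.induction with
  | _ C ih =>
    rcases C with ⟨C, hC⟩
    have ih' : ∀ D, IsClosed D → D ⊂ C → P D := fun D hD h => ih ⟨D, hD⟩ h
    rcases eq_empty_or_nonempty C with rfl | hne
    · exact empty
    by_cases hirr : IsIrreducible C
    · exact irred C hC hirr ih'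
    have : ¬ IsPreirreducible C := fun h => hirr ⟨hne, h⟩
    rw [isPreirreducible_iff_isClosed_union_isClosed] at this
    push Not at this
    obtain ⟨A, B, hA, hB, hAB, hCA, hCB⟩ := this
    have h : C = (C ∩ A) ∪ (C ∩ B) := by
      rw [← inter_union_distrib_left, inter_eq_left.mpr hAB]
    show P C
    rw [h]
    exact union _ _ (hC.inter hA) (hC.inter hB)
      (ih' _ (hC.inter hA) ⟨inter_subset_left, fun hh => hCA fun x hx => (hh hx).2⟩)
      (ih' _ (hC.inter hB) ⟨inter_subset_left, fun hh => hCB fun x hx => (hh hx).2⟩)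

lemma isConstructible_iff_forall_irreducible {E : Set X} :
    IsConstructible E ↔ ∀ Y : Set X, IsClosed Y → IsIrreducible Y →
      (∃ U : Set X, IsOpen U ∧ (U ∩ Y).Nonempty ∧ U ∩ Y ∩ E = ∅) ∨
        ∃ U : Set X, IsOpen U ∧ (U ∩ Y).Nonempty ∧ U ∩ Y ⊆ E := by
  constructor
  · intro hE Y hY hYi
    by_cases h : Y ⊆ closure (E ∩ Y)
    · exact Or.inr ((dense_iff_exists_open hYi hE).mp h)
    · obtain ⟨y, hy, hyc⟩ := not_subset.mp h
      refine Or.inl ⟨_, isClosed_closure.isOpen_compl, ⟨y, hyc, hy⟩, ?_⟩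
      rw [eq_empty_iff_forall_notMem]
      rintro x ⟨⟨hx, hxY⟩, hxE⟩
      exact hx (subset_closure ⟨hxE, hxY⟩)
  · intro h
    suffices ∀ C : Set X, IsClosed C → IsConstructible (E ∩ C) by
      simpa using this univ isClosed_univ
    refine closed_induction (by simp) (fun C D _ _ hC hD => ?_) fun Y hY hYi ih => ?_
    · rw [inter_union_distrib_left]; exact hC.union hD
    obtain ⟨U, hU, ⟨y, hyU, hyY⟩, hUE⟩ | ⟨U, hU, ⟨y, hyU, hyY⟩, hUE⟩ := h Y hY hYi
    · have h' : E ∩ Y = E ∩ (Y \ U) := by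
        ext x
        refine ⟨fun hx => ⟨hx.1, hx.2, fun hxU => ?_⟩, fun hx => ⟨hx.1, hx.2.1⟩⟩
        exact (eq_empty_iff_forall_notMem.mp hUE x) ⟨⟨hxU, hx.2⟩, hx.1⟩
      rw [h']
      exact ih _ (hY.sdiff hU) ⟨sdiff_subset, fun hh => (hh hyY).2 hyU⟩
    · have h' : E ∩ Y = (U ∩ Y) ∪ E ∩ (Y \ U) := by
        ext x
        have := @hUE x
        simp at this ⊢; tauto
      rw [h']
      exact ((isConstructible_of_isOpen hU).inter (isConstructible_of_isClosed hY)).union
        (ih _ (hY.sdiff hU) ⟨sdiff_subset, fun hh => (hh hyY).2 hyU⟩)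

lemma exists_univ_of_directed {ι : Type v} [Preorder ι] [IsDirected ι (· ≤ ·)] [Nonempty ι]
    (E : ι → Set X) (hmono : Monotone E) (hE : ∀ a, IsConstructible (E a))
    (hirr : ∀ Y : Set X, IsClosed Y → IsIrreducible Y → ∃ a, Y ⊆ closure (E a ∩ Y)) :
    ∃ a, E a = univ := by
  suffices ∀ C : Set X, IsClosed C → ∃ a, C ⊆ E a by
    obtain ⟨a, ha⟩ := this univ isClosed_univ
    exact ⟨a, univ_subset_iff.mp ha⟩
  refine closed_induction ⟨Classical.arbitrary ι, empty_subset _⟩ ?_ fun Y hY hYi ih => ?_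
  · rintro C D - - ⟨a, ha⟩ ⟨b, hb⟩
    obtain ⟨c, hac, hbc⟩ := exists_ge_ge a b
    exact ⟨c, union_subset (ha.trans (hmono hac)) (hb.trans (hmono hbc))⟩
  obtain ⟨a, ha⟩ := hirr Y hY hYi
  obtain ⟨U, hU, ⟨y, hyU, hyY⟩, hUE⟩ := (dense_iff_exists_open hYi (hE a)).mp ha
  obtain ⟨b, hb⟩ := ih _ (hY.sdiff hU) ⟨sdiff_subset, fun hh => (hh hyY).2 hyU⟩
  obtain ⟨c, hac, hbc⟩ := exists_ge_ge a b
  refine ⟨c, fun x hx => ?_⟩
  by_cases hxU : x ∈ U
  · exact hmono hac (hUE ⟨hxU, hx⟩)
  · exact hmono hbc (hb ⟨hx, hxU⟩)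

lemma exists_irreducible_of_mem_closure {E : Set X} (hE : IsConstructible E) {x : X}
    (hx : x ∈ closure E) : ∃ Y : Set X, IsClosed Y ∧ IsIrreducible Y ∧ x ∈ Y ∧
      ∃ U : Set X, IsOpen U ∧ (U ∩ Y).Nonempty ∧ U ∩ Y ⊆ E := by
  suffices ∀ C : Set X, IsClosed C → x ∈ closure (E ∩ C) → ∃ Y : Set X, IsClosed Y ∧
      IsIrreducible Y ∧ x ∈ Y ∧ ∃ U : Set X, IsOpen U ∧ (U ∩ Y).Nonempty ∧ U ∩ Y ⊆ E from
    this univ isClosed_univ (by simpa using hx)
  refine closed_induction (by simp) (fun C D _ _ hC hD h => ?_) fun Y hY hYi ih h => ?_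
  · rw [inter_union_distrib_left, closure_union] at h
    exact h.elim hC hD
  have hxY : x ∈ Y := closure_minimal inter_subset_right hY h
  by_cases hd : Y ⊆ closure (E ∩ Y)
  · exact ⟨Y, hY, hYi, hxY, (dense_iff_exists_open hYi hE).mp hd⟩
  refine ih _ (hY.inter isClosed_closure) ⟨inter_subset_left, fun hh => hd fun z hz => (hh hz).2⟩ ?_
  refine closure_mono ?_ h
  exact fun z hz => ⟨hz.1, hz.2, subset_closure hz⟩

lemma mem_nhds_iff_dense {x : X} {E : Set X} (hE : IsConstructible E) :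
    E ∈ nhds x ↔ ∀ Y : Set X, IsClosed Y → IsIrreducible Y → x ∈ Y → Y ⊆ closure (E ∩ Y) := by
  constructor
  · intro h Y hY hYi hxY
    obtain ⟨U, hUE, hU, hxU⟩ := mem_nhds_iff.mp h
    exact (dense_iff_exists_open hYi hE).mpr ⟨U, hU, ⟨x, hxU, hxY⟩, inter_subset_left.trans hUE⟩
  · intro h
    by_contra hn
    rw [← mem_interior_iff_mem_nhds, ← mem_compl_iff, ← closure_compl] at hn
    obtain ⟨Y, hY, hYi, hxY, U, hU, hne, hUE⟩ := exists_irreducible_of_mem_closure hE.compl hn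
    obtain ⟨V, hV, hVne, hVE⟩ := (dense_iff_exists_open hYi hE).mp (h Y hY hYi hxY)
    obtain ⟨z, hzY, hzU, hzV⟩ := hYi.2 U V hU hV (by rwa [inter_comm] at hne)
      (by rwa [inter_comm] at hVne)
    exact hUE ⟨hzU, hzY⟩ (hVE ⟨hzV, hzY⟩)

lemma isClosed_of_stableUnderSpecialization [QuasiSober X] {E : Set X} (hE : IsConstructible E)
    (h : StableUnderSpecialization E) : IsClosed E := by
  refine isClosed_of_closure_subset fun x hx => ?_
  obtain ⟨Y, hY, hYi, hxY, U, hU, hne, hUE⟩ := exists_irreducible_of_mem_closure hE hx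
  have hg : IsGenericPoint hYi.genericPoint Y := hYi.isGenericPoint_genericPoint hY
  exact h (hg.specializes hxY) (hUE ⟨(hg.mem_open_set_iff hU).mpr (by rwa [inter_comm] at hne), hg.mem⟩)

lemma isOpen_of_stableUnderGeneralization [QuasiSober X] {E : Set X} (hE : IsConstructible E)
    (h : StableUnderGeneralization E) : IsOpen E :=
  isClosed_compl_iff.mp (isClosed_of_stableUnderSpecialization hE.compl h.compl)

lemma constructible_function_iff {T : Type v} (h : X → T) :
    ((∀ t, IsConstructible (h ⁻¹' {t})) ∧ (range h).Finite) ↔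
      ∀ Y : Set X, IsClosed Y → IsIrreducible Y →
        ∃ U : Set X, IsOpen U ∧ (U ∩ Y).Nonempty ∧ ∀ a ∈ U ∩ Y, ∀ b ∈ U ∩ Y, h a = h b := by
  constructor
  · rintro ⟨hc, hf⟩ Y hY hYi
    classical
    have hsub : Y ⊆ ⋃₀ ↑(hf.toFinset.image fun t => closure (h ⁻¹' {t} ∩ Y)) := fun y hy =>
      ⟨_, Finset.mem_coe.mpr (Finset.mem_image.mpr ⟨h y, by simp, rfl⟩), subset_closure ⟨rfl, hy⟩⟩
    obtain ⟨_, ht, hYt⟩ := isIrreducible_iff_sUnion_isClosed.mp hYi _ (by simp) hsub
    obtain ⟨t, -, rfl⟩ := Finset.mem_image.mp ht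
    obtain ⟨U, hU, hne, hUE⟩ := (dense_iff_exists_open hYi (hc t)).mp hYt
    exact ⟨U, hU, hne, fun a ha b hb => (hUE ha).trans (hUE hb).symm⟩
  · intro H
    suffices ∀ C : Set X, IsClosed C →
        (∀ t, IsConstructible (h ⁻¹' {t} ∩ C)) ∧ (h '' C).Finite by
      obtain ⟨h1, h2⟩ := this univ isClosed_univ
      exact ⟨fun t => by simpa using h1 t, by simpa using h2⟩
    refine closed_induction ⟨by simp, by simp⟩
      (fun C D _ _ hC hD => ⟨fun t => ?_, ?_⟩) fun Y hY hYi ih => ?_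
    · rw [inter_union_distrib_left]; exact (hC.1 t).union (hD.1 t)
    · rw [image_union]; exact hC.2.union hD.2
    obtain ⟨U, hU, ⟨y, hyU, hyY⟩, hconst⟩ := H Y hY hYi
    obtain ⟨ih1, ih2⟩ := ih _ (hY.sdiff hU) ⟨sdiff_subset, fun hh => (hh hyY).2 hyU⟩
    constructor
    · intro t
      by_cases ht : h y = t
      · have : h ⁻¹' {t} ∩ Y = (U ∩ Y) ∪ h ⁻¹' {t} ∩ (Y \ U) := by
          ext x
          by_cases hx : x ∈ U
          · have := fun hxY => (hconst x ⟨hx, hxY⟩ y ⟨hyU, hyY⟩).trans ht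
            simp [hx]; exact this
          · simp [hx]
        rw [this]
        exact ((isConstructible_of_isOpen hU).inter (isConstructible_of_isClosed hY)).union (ih1 t)
      · have : h ⁻¹' {t} ∩ Y = h ⁻¹' {t} ∩ (Y \ U) := by
          ext x
          refine ⟨fun hx => ⟨hx.1, hx.2, fun hxU => ht ?_⟩, fun hx => ⟨hx.1, hx.2.1⟩⟩
          exact (hconst y ⟨hyU, hyY⟩ x ⟨hxU, hx.2⟩).trans hx.1
        rw [this]; exact ih1 t
    · refine (ih2.insert (h y)).subset ?_
      rintro _ ⟨x, hx, rfl⟩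
      by_cases hxU : x ∈ U
      · exact Or.inl (hconst x ⟨hxU, hx⟩ y ⟨hyU, hyY⟩)
      · exact Or.inr ⟨x, ⟨hx, hxU⟩, rfl⟩

end Noetherian

end Groth.Agent.ConstrTop58
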